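import Cfsg.Agent.H78.DegP.Odd
import Cfsg.Agent.H13.DegP.Setup
import Cfsg.Agent.H61.DegP.Family

/-!
helper78 (S4724): assembly, relative to the even case.
-/

set_option autoImplicit false
set_option linter.style.haveILetI false

open Cfsg

namespace H78.DegP

universe u

theorem main (heven : EvenStmt.{u}) {α : Type u} [Fintype α] [DecidableEq α] {p : ℕ} [Fact p.Prime]
    (hα : Fintype.card α = p) (G : Subgroup (Equiv.Perm α)) [MulAction.IsPretransitive G α]
    (huniq : ∃! χ : IrrCharacter G, charDegree (χ : G → ℂ) = p) (P : Sylow p G) (E : Subgroup G)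
    (hPE : (P : Subgroup G) ⊔ E = Subgroup.normalizer ((P : Subgroup G) : Set G))
    (hPE' : (P : Subgroup G) ⊓ E = ⊥)
    (hNE : Nat.card (Subgroup.normalizer (E : Set G)) = 2 * Nat.card E)
    (hTI : ∀ g : G, g ∉ Subgroup.normalizer (E : Set G) →
      E ⊓ E.map (MulAut.conj g).toMonoidHom = ⊥) :
    (p = 5 ∨ p = 7 ∨ p = 11) ∧ ∃ (F : Type) (_ : Field F) (_ : Fintype F), Fintype.card F = p ∧
      Nonempty (G ≃* Matrix.ProjectiveSpecialLinearGroup (Fin 2) F) := by
  have h := H13.DegP.setup hα G huniq P E hPE hPE' hNE hTI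
  by_cases he : Even (Nat.card E)
  · obtain ⟨F, iF, iFf, hodd, hiso⟩ := heven h he
    exact H13.DegP.finish h F hodd hiso
  · obtain ⟨hpodd, hiso⟩ := odd_case H61.DegP.familyStmt h he
    exact H13.DegP.finish h (ZMod p) (by rw [ZMod.card]; exact Nat.odd_iff.2 hpodd) hiso

end H78.DegP
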