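import Cfsg.Agent.H78.DegP.Label
import Cfsg.Agent.H85.D1.Inequality

/-!
helper78 (S4724): the lattice of a set of irreducible characters with values in an unramified
local ring has a label as soon as its total on `P` without `1` is positive.
-/

set_option autoImplicit false
set_option linter.style.haveILetI false
set_option linter.unusedSectionVars false

open Cfsg Module
open scoped ComplexConjugate

namespace H78.DegP

universe u

variable {G : Type u} [Group G] [Fintype G]

/-- The central element of a set of irreducible characters, times the group order. -/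
noncomputable def ES (S : Finset (IrrCharacter G)) (g : G) : ℂ :=
  ∑ ψ ∈ S, (ψ : G → ℂ) 1 * (ψ : G → ℂ) g⁻¹

theorem ES_conj (S : Finset (IrrCharacter G)) (g h : G) : ES S (h * g * h⁻¹) = ES S g := by
  refine Finset.sum_congr rfl fun ψ _ => ?_
  rw [show (h * g * h⁻¹)⁻¹ = h * g⁻¹ * h⁻¹ by group, H12.irr_isClassFunction ψ g⁻¹ h]

theorem ES_inv {S : Finset (IrrCharacter G)}
    (hS : ∀ ψ ∈ S, ∀ g, conj ((ψ : G → ℂ) g) = (ψ : G → ℂ) g) (g : G) : ES S g⁻¹ = ES S g := by
  refine Finset.sum_congr rfl fun ψ hψ => ?_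
  rw [H12.irr_inv ψ g, H12.irr_inv ψ g⁻¹, hS ψ hψ, hS ψ hψ, H12.irr_inv ψ g, hS ψ hψ]

/-- The operator of convolution by `ES S`. -/
noncomputable def opC (S : Finset (IrrCharacter G)) : End ℂ (G → ℂ) :=
  H85.D1.colOp fun a x => ES S (a⁻¹ * x)

theorem opC_eq (S : Finset (IrrCharacter G)) :
    opC S = (Nat.card G : ℂ) • ∑ ψ ∈ S, H13.isoProj (H85.D1.regRep ℂ G) ψ := by
  refine LinearMap.ext fun f => funext fun x => ?_
  simp only [opC, H85.D1.isoProj_regRep, LinearMap.smul_apply, LinearMap.sum_apply, Pi.smul_apply,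
    Finset.sum_apply, H85.D1.colOp_apply, smul_eq_mul]
  rw [Finset.sum_comm, Finset.mul_sum]
  refine Finset.sum_congr rfl fun b _ => ?_
  rw [ES, Finset.mul_sum, Finset.mul_sum]
  refine Finset.sum_congr rfl fun ψ _ => ?_
  have : (Nat.card G : ℂ) ≠ 0 := Nat.cast_ne_zero.2 Nat.card_pos.ne'
  field_simp

open Classical in
theorem opC_mul (S T : Finset (IrrCharacter G)) :
    opC S * opC T = (Nat.card G : ℂ) • opC (S ∩ T) := by
  rw [opC_eq S, opC_eq T, opC_eq (S ∩ T), smul_mul_smul_comm, smul_smul]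
  congr 1
  rw [Finset.sum_mul]
  simp only [Finset.mul_sum, H13.isoProj_mul, Finset.sum_ite_eq]
  rw [Finset.sum_ite_mem]

open Classical in
theorem conv_eq (S T : Finset (IrrCharacter G)) (g : G) :
    ∑ h, ES T h * ES S (h⁻¹ * g) = (Nat.card G : ℂ) * ES (S ∩ T) g := by
  have hsingle : ∀ U : Finset (IrrCharacter G), opC U (Pi.single 1 1) = ES U := fun U =>
    funext fun x => by
      rw [opC, H85.D1.colOp_apply, Finset.sum_eq_single 1 (fun a _ ha => by simp [ha]) (by simp)]
      simp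
  have h1 := congrFun (LinearMap.congr_fun (opC_mul S T) (Pi.single 1 1)) g
  rwa [Module.End.mul_apply, hsingle, LinearMap.smul_apply, hsingle, Pi.smul_apply, smul_eq_mul,
    opC, H85.D1.colOp_apply] at h1

variable {p : ℕ} [hp : Fact p.Prime] {R : Subring ℂ}

/-- Orthogonal sets give orthogonal elements. -/
theorem conv_zero {S T : Finset (IrrCharacter G)} (hd : Disjoint S T) {E E' : G → R}
    (hE : ∀ g, (E g : ℂ) = ES S g) (hE' : ∀ g, (E' g : ℂ) = ES T g) (g : G) :
    ∑ h, E h * E' (h⁻¹ * g) = 0 := by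
  classical
  apply Subtype.ext
  push_cast
  simp only [hE, hE']
  rw [conv_eq T S, Finset.inter_comm, Finset.disjoint_iff_inter_eq_empty.1 hd]
  simp [ES]

/-- A positive total on `P` without the identity gives a label. -/
theorem exists_lab [IsPrincipalIdealRing R] (hirr : Irreducible (p : R)) {ω : R}
    (hω : IsPrimitiveRoot ω (p - 1)) {cinv : R} (hcinv : cinv * ((p - 1 : ℕ) : R) = 1)
    (P : Sylow p G) {u n0 : G} (hu : Subgroup.zpowers u = (P : Subgroup G)) (huord : orderOf u = p)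
    {a : ℕ} (ha : ¬ p ∣ a) (hn0 : n0 * u = u ^ a * n0) (hn0p : n0 ^ (p - 1) = 1)
    (S : Finset (IrrCharacter G)) (E : G → R) (hE : ∀ g, (E g : ℂ) = ES S g) {z : ℤ}
    (hz : ∑ ψ ∈ S, (ψ : G → ℂ) 1 * ∑ i ∈ Finset.Ico 1 p, (ψ : G → ℂ) (u ^ i) = (z : ℂ))
    (hpos : 0 < z) : ∃ l : ℕ, Lab R p (P : Subgroup G) n0 E (ω ^ l) := by
  classical
  haveI : CharZero R := ⟨fun a b h => by
    have := congrArg Subtype.val h
    push_cast at this
    exact_mod_cast this⟩
  set Γ : End R (G → R) := H85.D1.colOp fun a x => E (a⁻¹ * x) with hΓ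
  have hEconj : ∀ g h, E (h * g * h⁻¹) = E g := fun g h => Subtype.ext (by rw [hE, hE, ES_conj])
  have hconv : ∀ g, ∑ h, E h * E (h⁻¹ * g) = (Nat.card G : R) * E g := fun g => Subtype.ext (by
    push_cast
    simp only [hE]
    rw [conv_eq, Finset.inter_self])
  have hΓsum : Γ = ∑ g, E g • H85.D1.regRep R G g := by
    refine LinearMap.ext fun f => funext fun x => ?_
    simp only [hΓ, H85.D1.colOp_apply, LinearMap.sum_apply, Finset.sum_apply,
      LinearMap.smul_apply, Pi.smul_apply, H85.D1.regRep_apply, smul_eq_mul]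
    refine Fintype.sum_equiv ((Equiv.inv G).trans (Equiv.mulLeft x)) _ _ fun b => ?_
    simp only [Equiv.trans_apply, Equiv.inv_apply, Equiv.coe_mulLeft]
    rw [mul_inv_rev, inv_inv, inv_mul_cancel_right, mul_comm]
    congr 1
    rw [← hEconj (b⁻¹ * x) b]
    congr 1
    group
  have hΓρ : ∀ g, H85.D1.regRep R G g * Γ = Γ * H85.D1.regRep R G g := fun g =>
    LinearMap.ext fun f => funext fun x => by
      rw [Module.End.mul_apply, H85.D1.regRep_apply, Module.End.mul_apply, hΓ,
        H85.D1.colOp_apply, H85.D1.colOp_apply]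
      refine Fintype.sum_equiv (Equiv.mulLeft g) _ _ fun a => ?_
      show f a * _ = H85.D1.regRep R G g f (g * a) * E ((g * a)⁻¹ * x)
      rw [H85.D1.regRep_apply, inv_mul_cancel_left]
      congr 2
      group
  have hΓΓ : ∀ f, Γ (Γ f) = (Nat.card G : R) • Γ f := fun f => funext fun x => by
    simp only [hΓ, H85.D1.colOp_apply, Pi.smul_apply, smul_eq_mul, Finset.mul_sum, Finset.sum_mul]
    rw [Finset.sum_comm]
    refine Finset.sum_congr rfl fun b _ => ?_
    rw [← mul_assoc, mul_comm (Nat.card G : R) (f b), mul_assoc, ← hconv, Finset.mul_sum]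
    refine Fintype.sum_equiv (Equiv.mulLeft b⁻¹) _ _ fun a => ?_
    simp only [Equiv.coe_mulLeft, mul_inv_rev, inv_inv, mul_assoc, mul_inv_cancel_left]
  set L := LinearMap.range Γ with hL
  have hLmem : ∀ g, ∀ x ∈ L, H85.D1.regRep R G g x ∈ L := by
    rintro g _ ⟨f, rfl⟩
    exact ⟨H85.D1.regRep R G g f, (LinearMap.congr_fun (hΓρ g) f).symm⟩
  let ρ : Representation R G L :=
    { toFun := fun g => (H85.D1.regRep R G g).restrict (hLmem g)
      map_one' := LinearMap.ext fun x => Subtype.ext (by simp)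
      map_mul' := fun g h => LinearMap.ext fun x => Subtype.ext (by simp) }
  let Γ' : (G → R) →ₗ[R] L := Γ.rangeRestrict
  have hΓL : ∀ x : L, Γ (x : G → R) = (Nat.card G : R) • (x : G → R) := by
    rintro ⟨_, f, rfl⟩
    exact hΓΓ f
  have hn : (Nat.card G : R) ≠ 0 := Nat.cast_ne_zero.2 Nat.card_pos.ne'
  have htrace : ∀ g, ((LinearMap.trace R L (ρ g) : R) : ℂ) = ES S g⁻¹ := by
    intro g
    have h1 : LinearMap.trace _ (G → R) (H85.D1.regRep _ G g * Γ) =
        (Nat.card G : R) * LinearMap.trace _ L (ρ g) := by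
      rw [show H85.D1.regRep R G g * Γ = (L.subtype ∘ₗ ρ g) ∘ₗ Γ' from
        LinearMap.ext fun f => rfl, ← LinearMap.trace_comp_comm']
      rw [show Γ' ∘ₗ (L.subtype ∘ₗ ρ g) = (Nat.card G : R) • ρ g from
        LinearMap.ext fun x => Subtype.ext (hΓL (ρ g x)), map_smul, smul_eq_mul]
    rw [hΓ, H85.D1.regRep_comp_colOp, H85.D1.trace_colOp,
      Finset.sum_congr rfl (g := fun _ => E g⁻¹) (fun b _ => by
        rw [← hEconj g⁻¹ b⁻¹, inv_inv, mul_assoc]),
      Finset.sum_const, Finset.card_univ, nsmul_eq_mul, ← Nat.card_eq_fintype_card] at h1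
    rw [← mul_left_cancel₀ hn h1, hE]
  have hC : (∑ g, E g • ρ g) = (Nat.card G : R) • (1 : End R L) := by
    refine LinearMap.ext fun x => Subtype.ext ?_
    rw [LinearMap.sum_apply, Submodule.coe_sum, LinearMap.smul_apply, Module.End.one_apply,
      Submodule.coe_smul, ← hΓL, hΓsum, LinearMap.sum_apply]
    rfl
  set σ : End R L := ρ u with hσdef
  set ν : End R L := ρ n0 with hνdef
  have hσ : σ ^ p = 1 := by rw [hσdef, ← map_pow, ← huord, pow_orderOf_eq_one, map_one]
  have hν : ν ^ (p - 1) = 1 := by rw [hνdef, ← map_pow, hn0p, map_one]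
  have hνσ : ν * σ = σ ^ a * ν := by rw [hσdef, hνdef, ← map_pow, ← map_mul, ← map_mul, hn0]
  have hS : ∑ i ∈ Finset.Ico 1 p, LinearMap.trace R L (σ ^ i) = (z : R) := by
    refine Subtype.ext ?_
    push_cast
    rw [← hz]
    simp only [Finset.mul_sum]
    rw [Finset.sum_comm]
    refine Finset.sum_congr rfl fun i _ => ?_
    rw [hσdef, ← map_pow, htrace, ES]
    exact Finset.sum_congr rfl fun ψ _ => by rw [inv_inv]
  obtain ⟨l, v, φ, hv, hnv, hφ, hnφ, hu'⟩ := exists_pair hirr hω hcinv σ ν hσ hν ha hνσ hS hpos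
  have hpowfix : ∀ x ∈ (P : Subgroup G), ρ x v = v ∧ φ ∘ₗ ρ x = φ := fun x hx => by
    rw [← hu] at hx
    obtain ⟨j, rfl⟩ :=
      ((isOfFinOrder_of_finite u).mem_powers_iff_mem_zpowers).2 hx
    simp only
    induction j with
    | zero => exact ⟨by simp, by simp [Module.End.one_eq_id]⟩
    | succ j ih =>
      have ih' := ih (Subgroup.npow_mem_zpowers u j)
      rw [pow_succ, map_mul]
      refine ⟨?_, ?_⟩
      · rw [Module.End.mul_apply, ← hσdef, hv, ih'.1]
      · rw [Module.End.mul_eq_comp, ← LinearMap.comp_assoc, ih'.2, ← hσdef, hφ]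
  exact ⟨l, L, inferInstance, inferInstance, inferInstance, inferInstance, ρ, v, φ, hC,
    fun x hx => (hpowfix x hx).1, hnv, fun x hx => (hpowfix x hx).2, hnφ, hu'⟩

end H78.DegP
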