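import Cfsg.Agent.H78.DegP.Defs
import Cfsg.Agent.H78.DegP.Lattice
import Cfsg.Agent.H85.D1.PrincipalMain
import Cfsg.Agent.H36.PrimeBlock

/-!
helper78 (S4724): odd `e`: the trivial character and the `m` real characters of degree `p + 1`
use up all `e = 2 m + 1` labels, so the exceptional characters have degree `e`.
-/

set_option autoImplicit false
set_option linter.style.haveILetI false
set_option linter.unusedSectionVars false

open Cfsg
open scoped ComplexConjugate Pointwise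

namespace H78.DegP

universe u

variable {G : Type u} [Group G] [Fintype G] {p : ℕ} [hp : Fact p.Prime]

theorem irr_mem_Z0 {m : ℕ} (χ : IrrCharacter G) {g : G} (hg : orderOf g ∣ m) :
    (χ : G → ℂ) g ∈ H85.D1.Z0 m := by
  obtain ⟨n, ρ, -, hρ⟩ := χ.2
  obtain ⟨μ, hμ, hsum, -⟩ := H12.exists_char_eigenvalues ρ g
  have h1 := hsum 1
  simp only [pow_one] at h1
  rw [← hρ, h1]
  refine sum_mem fun i _ => Subring.subset_closure ?_
  obtain ⟨c, rfl⟩ := hg
  show μ i ^ (orderOf g * c) = 1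
  rw [pow_mul, hμ i, one_pow]

/-- The exceptional characters have degree `e`. -/
theorem exc_degree {P : Sylow p G} {E : Subgroup G} (h : Hyp p P E) (m : ℕ)
    (hm : Nat.card E = 2 * m + 1) (β : Fin m → IrrCharacter G) (hβ : Function.Injective β)
    (hβd : ∀ j, charDegree (β j : G → ℂ) = p + 1)
    (hβr : ∀ j, ∀ g : G, conj ((β j : G → ℂ) g) = (β j : G → ℂ) g) :
    ∃ η : IrrCharacter G, H12.degree (η : G → ℂ) = Nat.card E := by
  classical
  have hp' : p.Prime := hp.out
  have hp2 := hp'.two_le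
  set e := Nat.card E with he
  have he2 := h.two_le
  have hedvd := h.dvd_pred
  have hele : e ≤ p - 1 := Nat.le_of_dvd (by omega) hedvd
  have hodd : p ≠ 2 := by omega
  have hpodd : p % 2 = 1 := hp'.eq_two_or_odd.resolve_left hodd
  have hem : e % 2 = 1 := by omega
  have hne : e + 1 < p := by omega
  have hep : ¬ p ∣ e := fun hd => by
    have := Nat.le_of_dvd (by omega) hd
    omega
  set N := Subgroup.normalizer ((P : Subgroup G) : Set G) with hN
  have hEN : E ≤ N := (le_sup_right : E ≤ (P : Subgroup G) ⊔ E).trans h.sup_eq.le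
  have hPN : (P : Subgroup G) ≤ N := (le_sup_left : (P : Subgroup G) ≤ (P : Subgroup G) ⊔ E).trans h.sup_eq.le
  have hNc : (N : Set G) = ((P : Subgroup G) : Set G) * (E : Set G) := by
    rw [show N = (P : Subgroup G) ⊔ E from h.sup_eq.symm]
    exact Subgroup.coe_mul_of_right_le_normalizer_left _ _ hEN
  have hprod : ∀ x ∈ N, ∃ y ∈ (P : Subgroup G), ∃ z ∈ E, y * z = x := fun x hx => by
    have h1 : x ∈ (N : Set G) := hx
    rw [hNc] at h1
    exact Set.mem_mul.1 h1
  -- the inertial index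
  have hidx : (Subgroup.centralizer ((P : Subgroup G) : Set G)).relIndex N = e := by
    rw [h.cent_P]
    have hb : Function.Bijective (fun yz : ↥(P : Subgroup G) × ↥E =>
        (⟨(yz.1 : G) * yz.2, mul_mem (hPN yz.1.2) (hEN yz.2.2)⟩ : N)) := by
      refine ⟨fun a b hab => ?_, fun x => ?_⟩
      · exact Subgroup.mul_injective_of_disjoint (disjoint_iff.2 h.inf_eq)
          (congrArg Subtype.val hab)
      · obtain ⟨y, hy, z, hz, hyz⟩ := hprod x x.2
        exact ⟨(⟨y, hy⟩, ⟨z, hz⟩), Subtype.ext hyz⟩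
    have h1 := Nat.card_eq_of_bijective _ hb
    rw [Nat.card_prod] at h1
    have h2 := Subgroup.relIndex_mul_relIndex (⊥ : Subgroup G) (P : Subgroup G) N bot_le hPN
    rw [Subgroup.relIndex_bot_left, Subgroup.relIndex_bot_left, ← h1] at h2
    exact Nat.eq_of_mul_eq_mul_left Nat.card_pos h2
  -- generators
  obtain ⟨M, hM⟩ := H20.exists_isPModular (p := p) hp'
  haveI : M.IsPrime := H20.isPrime_of_modular hM
  obtain ⟨ND⟩ := H85.D1.exists_normData h.card_P
  set u := ND.u with hu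
  have hzu : Subgroup.zpowers u = (P : Subgroup G) := ND.zpowers_u
  have huo : orderOf u = p := ND.orderOf_u
  have huP : u ∈ (P : Subgroup G) := hzu ▸ Subgroup.mem_zpowers u
  have hu1 : u ≠ 1 := fun h0 => by rw [h0, orderOf_one] at huo; omega
  haveI := h.cyclic
  obtain ⟨g0, hg0⟩ := IsCyclic.exists_generator (α := E)
  set n0 : G := (g0 : G) with hn0def
  have hn0N : n0 ∈ N := hEN g0.2
  have hn0e : n0 ^ e = 1 := by
    have h1 : g0 ^ e = 1 := pow_card_eq_one'
    exact congrArg Subtype.val h1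
  have hn0p : n0 ^ (p - 1) = 1 := by
    obtain ⟨c, hc⟩ := hedvd
    rw [hc, pow_mul, hn0e, one_pow]
  obtain ⟨a, hua⟩ : ∃ a : ℕ, u ^ a = n0 * u * n0⁻¹ := by
    have h1 : n0 * u * n0⁻¹ ∈ Subgroup.zpowers u :=
      hzu.symm ▸ (Subgroup.mem_normalizer_iff.1 hn0N u).1 huP
    exact (isOfFinOrder_of_finite u).mem_powers_iff_mem_zpowers.2 h1
  have ha : ¬ p ∣ a := fun hd => hu1 (by
    obtain ⟨c, rfl⟩ := hd
    rw [pow_mul, ← huo, pow_orderOf_eq_one, one_pow] at hua
    simpa using hua.symm)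
  have hn0u : n0 * u = u ^ a * n0 := by rw [hua, inv_mul_cancel_right]
  have hgen : ∀ x ∈ N, ∃ y ∈ (P : Subgroup G), ∃ j : ℕ, x = y * n0 ^ j := fun x hx => by
    obtain ⟨y, hy, z, hz, rfl⟩ := hprod x hx
    obtain ⟨j, hj⟩ := (isOfFinOrder_of_finite g0).mem_powers_iff_mem_zpowers.2 (hg0 ⟨z, hz⟩)
    exact ⟨y, hy, j, by rw [show n0 ^ j = z from congrArg Subtype.val hj]⟩
  -- the local ring
  obtain ⟨k, hk⟩ : p ∣ Nat.card G := h.card_P ▸ Subgroup.card_subgroup_dvd_card _
  have hpk : ¬ p ∣ k := fun hd => h.not_sq (by rw [hk, sq]; exact mul_dvd_mul_left _ hd)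
  set m0 := k * (p - 1) with hm0def
  have hk0 : 0 < k := Nat.pos_of_ne_zero fun h0 => hpk (h0 ▸ dvd_zero p)
  have hm0 : 0 < m0 := Nat.mul_pos hk0 (by omega)
  have hpm : ¬ p ∣ m0 := fun hd => (hp'.dvd_mul.1 hd).elim hpk fun h1 => by
    have := Nat.le_of_dvd (by omega) h1
    omega
  set R := H85.D1.R M m0 hm0 with hRdef
  haveI : IsDiscreteValuationRing R := H85.D1.isDVR (hm := hm0) hM hpm
  haveI : CharZero R := ⟨fun a b hab => by
    have := congrArg Subtype.val hab
    push_cast at this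
    exact_mod_cast this⟩
  have hirr : Irreducible (p : R) := H85.D1.irreducible_p hM hpm
  have hω0 : IsPrimitiveRoot (Complex.exp (2 * Real.pi * Complex.I / (p - 1 : ℕ))) (p - 1) :=
    Complex.isPrimitiveRoot_exp _ (by omega)
  set ω : R := ⟨_, H85.D1.Z0_le_R (Subring.subset_closure (by
    show Complex.exp (2 * Real.pi * Complex.I / (p - 1 : ℕ)) ^ m0 = 1
    rw [hm0def, Nat.mul_comm k, pow_mul, hω0.pow_eq_one, one_pow]))⟩
  have hω : IsPrimitiveRoot ω (p - 1) :=
    IsPrimitiveRoot.of_map_of_injective (f := R.subtype) hω0 Subtype.val_injective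
  obtain ⟨cinv, hcinv⟩ : ∃ c : R, c * ((p - 1 : ℕ) : R) = 1 :=
    ⟨⟨_, H85.D1.intCast_div_mem (hm := hm0) hM (fun hd => by
      have := Nat.le_of_dvd (by omega) hd
      omega : ¬ p ∣ p - 1)⟩, Subtype.ext (by
      push_cast
      exact inv_mul_cancel₀ (Nat.cast_ne_zero.2 (by omega)))⟩
  -- the principal block
  obtain ⟨X, Y, hB, hXY, hX, hY, εX, ε, hXp, hε, hYdeg, hYreg, hrel⟩ :=
    H85.D1.principal_structure (G := G) h.card_P hM hodd hidx
  have hone : H12.oneIrr G ∈ principalBlock M G := H20.mem_blockOf_self (H12.oneIrr G)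
  have hXval : ∀ χ ∈ X, ∀ x ∈ (P : Subgroup G), x ≠ 1 → (χ : G → ℂ) x = (εX χ : ℂ) := by
    intro χ hχ x hx hx1
    have h1 := (hXp χ hχ).2.2 x hx hx1 1 (one_mem _)
      (by rw [orderOf_one]; exact hp'.not_dvd_one)
    rwa [mul_one] at h1
  -- outside the block everything vanishes on `P`
  have hfree := H36.freeSylow_prime (G := G) h.card_P
  set B := (principalBlock M G).toFinset with hBdef
  have hBmem : ∀ χ, χ ∈ B ↔ χ ∈ principalBlock M G := fun χ => by rw [hBdef, Set.mem_toFinset]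
  have hvan : ∀ x ∈ (P : Subgroup G), x ≠ 1 → ∀ ψ ∈ Finset.univ \ B, (ψ : G → ℂ) x = 0 := by
    intro x hx hx1
    have h1 := H12.column_orthogonality x x
    rw [if_pos (IsConj.refl x), H62.centralizer_eq_of_mem h.card_P h.cent_P hx hx1, h.card_P,
      ← Finset.sum_sdiff (Finset.subset_univ B)] at h1
    have h2 := hfree.column_self hM hx hx1
    rw [H62.finsum_mem_eq_sum_of_mem _ hBmem, h.card_P] at h2
    rw [h2, add_eq_right] at h1
    simp only [Complex.mul_conj, ← Complex.ofReal_sum, Complex.ofReal_eq_zero] at h1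
    intro ψ hψ
    exact Complex.normSq_eq_zero.1
      ((Finset.sum_eq_zero_iff_of_nonneg fun _ _ => Complex.normSq_nonneg _).1 h1 ψ hψ)
  -- the finite sets
  set Xs := X.toFinite.toFinset with hXs
  set Ys := Y.toFinite.toFinset with hYs
  have hXm : ∀ χ, χ ∈ Xs ↔ χ ∈ X := fun χ => Set.Finite.mem_toFinset _
  have hYm : ∀ χ, χ ∈ Ys ↔ χ ∈ Y := fun χ => Set.Finite.mem_toFinset _
  have hXY' : Disjoint Xs Ys := Finset.disjoint_left.2 fun χ h1 h2 =>
    Set.disjoint_left.1 hXY ((hXm χ).1 h1) ((hYm χ).1 h2)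
  have hXc : Xs.card = e := by
    rw [← hX, Nat.card_coe_set_eq, Set.ncard_eq_toFinset_card X X.toFinite]
  have hBeq : B = Xs ∪ Ys := by
    ext χ
    rw [hBmem, hB, Finset.mem_union, hXm, hYm]
    rfl
  obtain ⟨η₀, hη₀⟩ : ∃ η, η ∈ Y := by
    have hpos : 0 < (p - 1) / e := Nat.div_pos hele (by omega)
    rw [← hY] at hpos
    obtain ⟨⟨η, hη⟩⟩ := (Nat.card_pos_iff.1 hpos).1
    exact ⟨η, hη⟩
  set D := H12.degree (η₀ : G → ℂ) with hD
  have hdeg1 : ∀ χ : IrrCharacter G, (χ : G → ℂ) 1 = (H12.degree (χ : G → ℂ) : ℂ) :=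
    H12.irr_apply_one
  have hYD : ∀ η ∈ Y, (η : G → ℂ) 1 = (D : ℂ) := fun η hη => by
    rw [hYreg η hη η₀ hη₀ 1 (by rw [orderOf_one]; exact hp'.not_dvd_one), hdeg1]
  have hrelZ : ε * (D : ℤ) = ∑ χ ∈ Xs, εX χ * (H12.degree (χ : G → ℂ) : ℤ) := by
    have h1 := hrel η₀ hη₀ 1 (by rw [orderOf_one]; exact hp'.not_dvd_one)
    rw [H62.finsum_mem_eq_sum_of_mem _ hXm] at h1
    simp only [hdeg1] at h1
    apply Int.cast_injective (α := ℂ)
    push_cast
    exact h1
  have hYsum : ∀ x ∈ (P : Subgroup G), x ≠ 1 → ∑ η ∈ Ys, (η : G → ℂ) x = -(ε : ℂ) := by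
    intro x hx hx1
    have h1 := H12.regular_eq_sum (G := G) x
    rw [if_neg hx1, ← Finset.sum_sdiff (Finset.subset_univ B),
      Finset.sum_eq_zero (fun ψ hψ => by rw [hvan x hx hx1 ψ hψ, mul_zero]), zero_add, hBeq,
      Finset.sum_union hXY',
      Finset.sum_congr rfl (g := fun χ : IrrCharacter G =>
        ((εX χ * (H12.degree (χ : G → ℂ) : ℤ) : ℤ) : ℂ)) (s₁ := Xs) (fun χ hχ => by
          rw [hdeg1, hXval χ ((hXm χ).1 hχ) x hx hx1]; push_cast; ring),
      ← Int.cast_sum, ← hrelZ,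
      Finset.sum_congr rfl (g := fun χ : IrrCharacter G => (D : ℂ) * (χ : G → ℂ) x) (s₁ := Ys)
        (fun χ hχ => by rw [hYD χ ((hYm χ).1 hχ)]), ← Finset.mul_sum] at h1
    push_cast at h1
    have hD0 : (D : ℂ) ≠ 0 := Nat.cast_ne_zero.2 (H12.irr_degree_pos η₀).ne'
    apply mul_left_cancel₀ hD0
    linear_combination h1
  -- values in the local ring
  have hreg : ∀ (χ : IrrCharacter G) (g : G), ¬ p ∣ orderOf g → (χ : G → ℂ) g ∈ R := by
    intro χ g hg
    refine H85.D1.Z0_le_R (irr_mem_Z0 χ (dvd_mul_of_dvd_left ?_ _))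
    have h1 : orderOf g ∣ p * k := hk ▸ orderOf_dvd_natCard g
    exact ((Nat.coprime_comm.1 ((hp'.coprime_iff_not_dvd).2 hg))).dvd_of_dvd_mul_left h1
  have hsing : ∀ g : G, p ∣ orderOf g → ∃ x ∈ (P : Subgroup G), x ≠ 1 ∧ IsConj x g := by
    intro g hg
    obtain ⟨c, hc⟩ := hg
    have hgc : orderOf (g ^ c) = p := by
      rw [orderOf_pow' g (fun h0 => (orderOf_pos g).ne' (by rw [hc, h0, mul_zero]))]
      rw [hc, Nat.gcd_mul_left_left, Nat.mul_div_cancel _ (Nat.pos_of_ne_zero fun h0 =>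
        (orderOf_pos g).ne' (by rw [hc, h0, mul_zero]))]
    obtain ⟨y, hy, hconj⟩ := H20.FreeSylow.exists_isConj_mem (P := P) (y := g ^ c) ⟨1, by rw [hgc, pow_one]⟩
    obtain ⟨t, ht⟩ := isConj_iff.1 hconj
    have hy1 : y ≠ 1 := fun h0 => by
      have h4 : g ^ c = 1 := by
        calc g ^ c = t⁻¹ * (t * g ^ c * t⁻¹) * t := by group
          _ = 1 := by rw [ht, h0]; group
      rw [h4, orderOf_one] at hgc
      omega
    refine ⟨t * g * t⁻¹, ?_, fun h0 => ?_, isConj_iff.2 ⟨t⁻¹, by group⟩⟩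
    · rw [← H62.centralizer_eq_of_mem h.card_P h.cent_P hy hy1,
        Subgroup.mem_centralizer_singleton_iff, ← ht]
      have h3 : g * g ^ c = g ^ c * g := (Commute.self_pow g c).eq
      calc t * g * t⁻¹ * (t * g ^ c * t⁻¹) = t * (g * g ^ c) * t⁻¹ := by group
        _ = t * (g ^ c * g) * t⁻¹ := by rw [h3]
        _ = t * g ^ c * t⁻¹ * (t * g * t⁻¹) := by group
    · have h4 : g = 1 := by
        calc g = t⁻¹ * (t * g * t⁻¹) * t := by group
          _ = 1 := by rw [h0]; group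
      rw [h4, one_pow, orderOf_one] at hgc
      omega
  have hXR : ∀ χ ∈ X, ∀ g : G, (χ : G → ℂ) g ∈ R := fun χ hχ g => by
    by_cases hg : p ∣ orderOf g
    · obtain ⟨x, hx, hx1, hxg⟩ := hsing g hg
      rw [← H12.IsClassFunction.of_isConj (H12.irr_isClassFunction χ) hxg, hXval χ hχ x hx hx1]
      exact intCast_mem _ _
    · exact hreg χ g hg
  have hYR : ∀ g : G, ∑ η ∈ Ys, (η : G → ℂ) g ∈ R := fun g => by
    by_cases hg : p ∣ orderOf g
    · obtain ⟨x, hx, hx1, hxg⟩ := hsing g hg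
      rw [Finset.sum_congr rfl (g := fun η : IrrCharacter G => (η : G → ℂ) x) fun η _ =>
        (H12.IsClassFunction.of_isConj (H12.irr_isClassFunction η) hxg).symm, hYsum x hx hx1]
      exact neg_mem (intCast_mem _ _)
    · exact sum_mem fun η _ => hreg η g hg
  let El : IrrCharacter G → G → R := fun χ g =>
    if hχ : χ ∈ X then ⟨(χ : G → ℂ) 1 * (χ : G → ℂ) g⁻¹, mul_mem (hXR χ hχ 1) (hXR χ hχ g⁻¹)⟩
    else 0
  have hEl : ∀ χ ∈ X, ∀ g, (El χ g : ℂ) = ES ({χ} : Finset (IrrCharacter G)) g := fun χ hχ g => by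
    simp only [El, dif_pos hχ, ES, Finset.sum_singleton]
  let EY : G → R := fun g => ⟨(D : ℂ) * ∑ η ∈ Ys, (η : G → ℂ) g⁻¹,
    mul_mem (natCast_mem _ _) (hYR _)⟩
  have hEY : ∀ g, (EY g : ℂ) = ES Ys g := fun g => by
    show (D : ℂ) * ∑ η ∈ Ys, (η : G → ℂ) g⁻¹ = _
    rw [Finset.mul_sum, ES]
    exact Finset.sum_congr rfl fun η hη => by rw [hYD η ((hYm η).1 hη)]
  -- labels
  have hui : ∀ i ∈ Finset.Ico 1 p, u ^ i ∈ (P : Subgroup G) ∧ u ^ i ≠ 1 := fun i hi =>
    ⟨pow_mem huP i, fun h0 => by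
      rw [Finset.mem_Ico] at hi
      have := Nat.le_of_dvd (by omega) (huo ▸ orderOf_dvd_of_pow_eq_one h0)
      omega⟩
  have hlabX : ∀ χ ∈ X, εX χ = 1 → ∃ l : ℕ, Lab R p (P : Subgroup G) n0 (El χ) (ω ^ l) := by
    intro χ hχ hεχ
    refine exists_lab hirr hω hcinv P hzu huo ha hn0u hn0p {χ} (El χ) (hEl χ hχ)
      (z := (H12.degree (χ : G → ℂ) : ℤ) * ((p - 1 : ℕ) : ℤ)) ?_ ?_
    · rw [Finset.sum_singleton, Finset.sum_congr rfl fun i hi => by
        rw [hXval χ hχ _ (hui i hi).1 (hui i hi).2, hεχ], Finset.sum_const, Nat.card_Ico, hdeg1]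
      simp
    · exact mul_pos (by exact_mod_cast H12.irr_degree_pos χ) (by exact_mod_cast (by omega : 0 < p - 1))
  have hlabY : ε = -1 → ∃ l : ℕ, Lab R p (P : Subgroup G) n0 EY (ω ^ l) := by
    intro hε1
    refine exists_lab hirr hω hcinv P hzu huo ha hn0u hn0p Ys EY hEY
      (z := (D : ℤ) * ((p - 1 : ℕ) : ℤ)) ?_ ?_
    · rw [Finset.sum_congr rfl fun η hη => by rw [hYD η ((hYm η).1 hη)], ← Finset.mul_sum,
        Finset.sum_comm, Finset.sum_congr rfl fun i hi => hYsum _ (hui i hi).1 (hui i hi).2,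
        Finset.sum_const, Nat.card_Ico, hε1]
      simp
    · exact mul_pos (by exact_mod_cast H12.irr_degree_pos η₀) (by exact_mod_cast (by omega : 0 < p - 1))
  have hroot : ∀ {F : G → R} {z : R}, Lab R p (P : Subgroup G) n0 F z → z ^ e = 1 := by
    intro F z hL
    obtain ⟨L, i1, i2, i3, i4, ρ, v, φ, -, -, hnv, -, -, hunit⟩ := hL
    have h1 : ∀ j : ℕ, ρ (n0 ^ j) v = z ^ j • v := fun j => by
      induction j with
      | zero => simp
      | succ j ih => rw [pow_succ', map_mul, Module.End.mul_apply, ih, map_smul, hnv, smul_smul,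
          pow_succ]
    have h2 := h1 e
    rw [hn0e, map_one, Module.End.one_apply] at h2
    have hv : v ≠ 0 := fun h0 => hunit (by rw [h0, map_zero]; exact dvd_zero _)
    by_contra hz
    exact hv ((smul_eq_zero.1 (show (z ^ e - 1) • v = 0 by rw [sub_smul, one_smul, ← h2, sub_self])).resolve_left
      (sub_ne_zero.2 hz))
  have hdisj : ∀ {S T : Finset (IrrCharacter G)} {F F' : G → R} {z : R},
      (∀ g, (F g : ℂ) = ES S g) → (∀ g, (F' g : ℂ) = ES T g) → Disjoint S T →
      Lab R p (P : Subgroup G) n0 F z → Lab R p (P : Subgroup G) n0 F' z → False :=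
    fun hF hF' hd hL hL' => Lab.disjoint P hzu hn0N hgen hirr.prime
      (huo ▸ pow_orderOf_eq_one u) (conv_zero hd hF hF') hL hL'
  -- `1` and the `β j`
  have honeX : H12.oneIrr G ∈ X := by
    refine (hB ▸ hone : H12.oneIrr G ∈ X ∪ Y).resolve_right fun h1 => ?_
    have hmod := hYdeg _ h1
    rw [H20.charDegree_eq_degree, show H12.degree (H12.oneIrr G : G → ℂ) = 1 by
      apply Nat.cast_injective (R := ℂ)
      rw [← hdeg1, H12.oneIrr_apply, Nat.cast_one]] at hmod
    obtain ⟨c, hc⟩ := Int.modEq_iff_dvd.1 hmod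
    rcases hε with he1 | he1 <;> rw [he1] at hc <;> push_cast at hc
    · have : (p : ℤ) ∣ ((e - 1 : ℕ) : ℤ) := ⟨c, by omega⟩
      have := Nat.le_of_dvd (by omega) (Int.natCast_dvd_natCast.1 this)
      omega
    · have : (p : ℤ) ∣ ((e + 1 : ℕ) : ℤ) := ⟨-c, by rw [mul_neg]; omega⟩
      have := Nat.le_of_dvd (by omega) (Int.natCast_dvd_natCast.1 this)
      omega
  have hsmall : ∀ {x : ℤ}, (p : ℤ) ∣ x → (x = 2 ∨ x = 0 ∨ x = -2) → x = 0 := by
    intro x hd hx
    rcases hx with rfl | rfl | rfl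
    · have := Nat.le_of_dvd (by omega) (Int.natCast_dvd_natCast.1 (show (p : ℤ) ∣ ((2 : ℕ) : ℤ) by simpa using hd))
      omega
    · rfl
    · have := Nat.le_of_dvd (by omega) (Int.natCast_dvd_natCast.1 (show (p : ℤ) ∣ ((2 : ℕ) : ℤ) by simpa using hd))
      omega
  have hεone : εX (H12.oneIrr G) = 1 := by
    have h1 := hXval _ honeX u huP hu1
    rw [H12.oneIrr_apply] at h1
    exact_mod_cast h1.symm
  have hβX : ∀ j, β j ∈ X ∧ εX (β j) = 1 := by
    intro j
    have hin : β j ∈ principalBlock M G := by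
      by_contra hout
      have h1 : (p : ℤ) ∣ (H12.degree (β j : G → ℂ) : ℤ) := H36.dvd_degree_of_vanishing h.card_P _
        fun x hx hx1 => hvan x hx hx1 _ (Finset.mem_sdiff.2 ⟨Finset.mem_univ _, by rwa [hBmem]⟩)
      have h2 := Int.natCast_dvd_natCast.1 h1
      rw [← H20.charDegree_eq_degree, hβd j, Nat.dvd_add_self_left] at h2
      exact hp'.not_dvd_one h2
    rw [hB] at hin
    rcases hin with hin | hin
    · refine ⟨hin, ?_⟩
      have h1 := (hXp _ hin).2.1
      rw [hβd j] at h1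
      obtain ⟨c, hc⟩ := Int.modEq_iff_dvd.1 h1
      rcases (hXp _ hin).1 with h2 | h2
      · exact h2
      · exfalso
        rw [h2] at hc
        push_cast at hc
        have h3 := hsmall (x := -2) ⟨c + 1, by rw [mul_add, mul_one]; omega⟩ (Or.inr (Or.inr rfl))
        omega
    · exfalso
      have h1 := hYdeg _ hin
      rw [hβd j] at h1
      obtain ⟨c, hc⟩ := Int.modEq_iff_dvd.1 h1
      rcases hε with h2 | h2 <;> rw [h2] at hc <;> push_cast at hc
      · have : (p : ℤ) ∣ ((e - 1 : ℕ) : ℤ) := ⟨c + 1, by rw [mul_add, mul_one]; omega⟩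
        have := Nat.le_of_dvd (by omega) (Int.natCast_dvd_natCast.1 this)
        omega
      · have : (p : ℤ) ∣ ((e + 1 : ℕ) : ℤ) := ⟨-c - 1, by rw [mul_sub, mul_one, mul_neg]; omega⟩
        have := Nat.le_of_dvd (by omega) (Int.natCast_dvd_natCast.1 this)
        omega
  have hβne : ∀ j, β j ≠ H12.oneIrr G := fun j h1 => by
    have h2 := hβd j
    rw [h1, H20.charDegree_eq_degree, show H12.degree (H12.oneIrr G : G → ℂ) = 1 by
      apply Nat.cast_injective (R := ℂ)
      rw [← hdeg1, H12.oneIrr_apply, Nat.cast_one]] at h2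
    omega
  -- the trivial lattice carries the label one, the `β j` carry pairs
  obtain ⟨l₀, hL₀⟩ := hlabX _ honeX hεone
  choose l hl using fun j => hlabX (β j) (hβX j).1 (hβX j).2
  have hInv : ∀ {χ : IrrCharacter G}, χ ∈ X → (∀ g, conj ((χ : G → ℂ) g) = (χ : G → ℂ) g) →
      ∀ {z : R}, Lab R p (P : Subgroup G) n0 (El χ) z →
        Lab R p (P : Subgroup G) n0 (El χ) (z ^ (e - 1)) := by
    intro χ hχ hreal z hz
    refine Lab.dual ?_ (fun g => Subtype.ext ?_) hz
    · rw [← pow_succ, show e - 1 + 1 = e by omega, hroot hz]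
    · rw [hEl χ hχ, hEl χ hχ, ES_inv (by simpa using hreal)]
  have hz0 : (ω ^ l₀ : R) = 1 := by
    have h1 := hInv honeX (fun g => by rw [H12.oneIrr_apply, map_one]) hL₀
    have h2 : (ω ^ l₀) ^ (e - 1) = ω ^ l₀ := by
      by_contra hne'
      -- the trivial lattice has a single label
      obtain ⟨L, i1, i2, i3, i4, ρ, v, φ, hC, -, hnv, -, -, hunit⟩ := hL₀
      have hv : v ≠ 0 := fun h0 => hunit (by rw [h0, map_zero]; exact dvd_zero _)
      have hE1 : ∀ g, El (H12.oneIrr G) g = 1 := fun g => Subtype.ext (by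
        rw [hEl _ honeX, ES, Finset.sum_singleton, H12.oneIrr_apply, H12.oneIrr_apply, one_mul]
        rfl)
      have h3 : ρ n0 * (∑ g, El (H12.oneIrr G) g • ρ g) = ∑ g, El (H12.oneIrr G) g • ρ g := by
        simp only [hE1, one_smul, Finset.mul_sum, ← map_mul]
        exact Fintype.sum_equiv (Equiv.mulLeft n0) _ _ fun g => rfl
      rw [hC, mul_smul_comm, mul_one] at h3
      have h4 := LinearMap.congr_fun h3 v
      rw [LinearMap.smul_apply, LinearMap.smul_apply, hnv, Module.End.one_apply] at h4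
      have h5 : ω ^ l₀ • v = v :=
        smul_right_injective _ (Nat.cast_ne_zero.2 (Nat.card_pos (α := G)).ne' : (Nat.card G : R) ≠ 0) h4
      have h6 : (ω ^ l₀ : R) = 1 := by
        by_contra hz
        exact hv ((smul_eq_zero.1 (show (ω ^ l₀ - 1) • v = 0 by
          rw [sub_smul, one_smul, h5, sub_self])).resolve_left (sub_ne_zero.2 hz))
      exact hne' (by rw [h6, one_pow])
    have h3 : (ω ^ l₀) ^ 2 = 1 := by
      rw [sq]
      conv_lhs => arg 1; rw [← h2]
      rw [← pow_succ, show e - 1 + 1 = e by omega, hroot hL₀]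
    have h4 := hroot hL₀
    rw [show e = 2 * m + 1 from hm, pow_succ, pow_mul, h3, one_pow, one_mul] at h4
    exact h4
  -- the label map
  let lab : Option (Fin m × Bool) → R := fun o => match o with
    | none => ω ^ l₀
    | some (j, false) => ω ^ l j
    | some (j, true) => (ω ^ l j) ^ (e - 1)
  let who : Option (Fin m × Bool) → IrrCharacter G := fun o => match o with
    | none => H12.oneIrr G
    | some (j, _) => β j
  have hwho : ∀ o, who o ∈ X ∧ εX (who o) = 1 ∧ Lab R p (P : Subgroup G) n0 (El (who o)) (lab o) := by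
    rintro (_ | ⟨j, _ | _⟩)
    · exact ⟨honeX, hεone, hL₀⟩
    · exact ⟨(hβX j).1, (hβX j).2, hl j⟩
    · exact ⟨(hβX j).1, (hβX j).2, hInv (hβX j).1 (hβr j) (hl j)⟩
  have hsame : ∀ o o', lab o = lab o' → who o = who o' := by
    intro o o' hoo
    by_contra hne'
    exact hdisj (hEl _ (hwho o).1) (hEl _ (hwho o').1) (Finset.disjoint_singleton.2 hne')
      (hwho o).2.2 (hoo ▸ (hwho o').2.2)
  have hne1 : ∀ j, (ω ^ l j : R) ≠ 1 := fun j h1 => hβne j
    (hsame (some (j, false)) none (by show ω ^ l j = ω ^ l₀; rw [h1, hz0]))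
  have hflip : ∀ j, (ω ^ l j : R) ≠ (ω ^ l j) ^ (e - 1) := fun j h1 => hne1 j (by
    have h2 : (ω ^ l j) ^ 2 = 1 := by
      rw [sq]
      conv_lhs => arg 1; rw [h1]
      rw [← pow_succ, show e - 1 + 1 = e by omega, hroot (hl j)]
    have h4 := hroot (hl j)
    rw [show e = 2 * m + 1 from hm, pow_succ, pow_mul, h2, one_pow, one_mul] at h4
    exact h4)
  have hlabinj : Function.Injective lab := by
    intro o o' hoo
    have hw := hsame o o' hoo
    rcases o with _ | ⟨j, b⟩ <;> rcases o' with _ | ⟨j', b'⟩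
    · rfl
    · exact absurd hw.symm (hβne j')
    · exact absurd hw (hβne j)
    · obtain rfl : j = j' := hβ hw
      cases b <;> cases b'
      · rfl
      · exact absurd hoo (hflip j)
      · exact absurd hoo.symm (hflip j)
      · rfl
  have hall : ∀ {F : G → R} {z : R}, Lab R p (P : Subgroup G) n0 F z → ∃ o, lab o = z := by
    intro F z hL
    set Z := (Polynomial.nthRoots e (1 : R)).toFinset with hZ
    have hsub : Finset.univ.image lab ⊆ Z := fun y hy => by
      obtain ⟨o, -, rfl⟩ := Finset.mem_image.1 hy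
      rw [hZ, Multiset.mem_toFinset, Polynomial.mem_nthRoots (by omega)]
      exact hroot (hwho o).2.2
    have hc : Z.card ≤ (Finset.univ.image lab).card := by
      rw [Finset.card_image_of_injective _ hlabinj, Finset.card_univ, Fintype.card_option,
        Fintype.card_prod, Fintype.card_fin, Fintype.card_bool]
      refine (Multiset.toFinset_card_le _).trans ((Polynomial.card_nthRoots e 1).trans ?_)
      omega
    have hz : z ∈ Finset.univ.image lab := by
      rw [Finset.eq_of_subset_of_card_le hsub hc, hZ, Multiset.mem_toFinset,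
        Polynomial.mem_nthRoots (by omega)]
      exact hroot hL
    obtain ⟨o, -, ho⟩ := Finset.mem_image.1 hz
    exact ⟨o, ho⟩
  -- no further positive characters
  set P0 := insert (H12.oneIrr G) (Finset.univ.image β) with hP0
  have hP0X : P0 ⊆ Xs := by
    rw [hP0, Finset.insert_subset_iff, hXm]
    refine ⟨honeX, fun χ hχ => ?_⟩
    obtain ⟨j, -, rfl⟩ := Finset.mem_image.1 hχ
    exact (hXm _).2 (hβX j).1
  have hP0c : P0.card = m + 1 := by
    rw [hP0, Finset.card_insert_of_notMem (fun h1 => by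
      obtain ⟨j, -, hj⟩ := Finset.mem_image.1 h1
      exact hβne j hj), Finset.card_image_of_injective _ hβ, Finset.card_univ, Fintype.card_fin]
  have hwP0 : ∀ o, who o ∈ P0 := by
    rintro (_ | ⟨j, b⟩)
    · exact Finset.mem_insert_self _ _
    · exact Finset.mem_insert_of_mem (Finset.mem_image_of_mem _ (Finset.mem_univ j))
  have hneg : ∀ χ ∈ Xs \ P0, εX χ = -1 := by
    intro χ hχ
    rw [Finset.mem_sdiff, hXm] at hχ
    refine (hXp χ hχ.1).1.resolve_left fun h1 => ?_
    obtain ⟨i, hi⟩ := hlabX χ hχ.1 h1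
    obtain ⟨o, ho⟩ := hall hi
    exact hdisj (hEl χ hχ.1) (hEl _ (hwho o).1)
      (Finset.disjoint_singleton.2 fun h2 => hχ.2 (h2 ▸ hwP0 o)) hi (ho ▸ (hwho o).2.2)
  have hεpos : ε = 1 := by
    refine hε.resolve_right fun h1 => ?_
    obtain ⟨i, hi⟩ := hlabY h1
    obtain ⟨o, ho⟩ := hall hi
    exact hdisj hEY (hEl _ (hwho o).1) (Finset.disjoint_singleton_right.2 fun h2 =>
      Set.disjoint_left.1 hXY (hwho o).1 ((hYm _).1 h2)) hi (ho ▸ (hwho o).2.2)
  -- the degree
  have hsumP0 : ∑ χ ∈ P0, εX χ * (H12.degree (χ : G → ℂ) : ℤ) = 1 + (m : ℤ) * ((p : ℤ) + 1) := by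
    rw [hP0, Finset.sum_insert (fun h1 => by
      obtain ⟨j, -, hj⟩ := Finset.mem_image.1 h1
      exact hβne j hj), Finset.sum_image fun a _ b _ h1 => hβ h1,
      Finset.sum_congr rfl (g := fun _ => ((p : ℤ) + 1)) (s₁ := Finset.univ) (fun j _ => by
        rw [(hβX j).2, one_mul, ← H20.charDegree_eq_degree, hβd j]; push_cast; ring),
      Finset.sum_const, Finset.card_univ, Fintype.card_fin, hεone, nsmul_eq_mul, one_mul]
    congr 1
    have h1 : H12.degree (H12.oneIrr G : G → ℂ) = 1 := by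
      apply Nat.cast_injective (R := ℂ)
      rw [← hdeg1, H12.oneIrr_apply, Nat.cast_one]
    rw [h1, Nat.cast_one]
  have hsumN : ∑ χ ∈ Xs \ P0, εX χ * (H12.degree (χ : G → ℂ) : ℤ) ≤ (m : ℤ) * (1 - (p : ℤ)) := by
    have hcard : (Xs \ P0).card = m := by
      rw [Finset.card_sdiff_of_subset hP0X, hXc, hP0c]
      omega
    calc _ ≤ ∑ _χ ∈ Xs \ P0, (1 - (p : ℤ)) := Finset.sum_le_sum fun χ hχ => by
          have hd := (hXp χ ((hXm χ).1 (Finset.mem_sdiff.1 hχ).1)).2.1
          rw [hneg χ hχ, H20.charDegree_eq_degree] at hd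
          rw [hneg χ hχ]
          obtain ⟨c, hc⟩ := Int.modEq_iff_dvd.1 hd
          have hpos : (0 : ℤ) < H12.degree (χ : G → ℂ) := by exact_mod_cast H12.irr_degree_pos χ
          have hcneg : c ≤ -1 := by
            by_contra hc0
            push Not at hc0
            have : 0 ≤ (p : ℤ) * c := mul_nonneg (by positivity) (by omega)
            omega
          have : (p : ℤ) * c ≤ (p : ℤ) * -1 := mul_le_mul_of_nonneg_left hcneg (by positivity)
          linarith
      _ = (m : ℤ) * (1 - (p : ℤ)) := by rw [Finset.sum_const, hcard, nsmul_eq_mul]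
  have hDle : (D : ℤ) ≤ (e : ℤ) := by
    rw [hεpos, one_mul] at hrelZ
    rw [hrelZ, ← Finset.sum_sdiff hP0X, hsumP0]
    have : (e : ℤ) = 2 * (m : ℤ) + 1 := by exact_mod_cast hm
    nlinarith [hsumN]
  refine ⟨η₀, ?_⟩
  have hmod := hYdeg η₀ hη₀
  rw [H20.charDegree_eq_degree, hεpos, one_mul] at hmod
  obtain ⟨c, hc⟩ := Int.modEq_iff_dvd.1 hmod
  rw [← hD] at hc ⊢
  have hDpos : (0 : ℤ) < D := by exact_mod_cast H12.irr_degree_pos η₀
  rcases lt_trichotomy c 0 with hc0 | rfl | hc0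
  · have : (p : ℤ) * c < 0 := mul_neg_of_pos_of_neg (by exact_mod_cast hp'.pos) hc0
    omega
  · omega
  · have : (p : ℤ) * 1 ≤ (p : ℤ) * c := mul_le_mul_of_nonneg_left (by omega) (by positivity)
    omega

end H78.DegP
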