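import Cfsg.Prelude.Def_Characters
import Cfsg.Prelude.Def_Blocks
import Mathlib

/-!
helper78: S4724 interfaces (transitive groups of prime degree with a TI complement in the
Sylow normaliser and a unique irreducible character of degree `p`).
-/

set_option autoImplicit false

open Cfsg

namespace H78.DegP

universe u

/-- The reduced setting: `G` simple, `P` self-centralising of order `p`, `N(P) = P E`,
`E` cyclic TI with normaliser of order `2 |E|`, one irreducible character of degree `p`,
and a subgroup of index `p`. -/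
structure Hyp {G : Type u} [Group G] (p : ℕ) [Fact p.Prime] (P : Sylow p G) (E : Subgroup G) : Prop where
  simple : IsSimpleGroup G
  nonabelian : ∃ a b : G, a * b ≠ b * a
  card_P : Nat.card (P : Subgroup G) = p
  not_sq : ¬ p ^ 2 ∣ Nat.card G
  cent_P : Subgroup.centralizer ((P : Subgroup G) : Set G) = (P : Subgroup G)
  sup_eq : (P : Subgroup G) ⊔ E = Subgroup.normalizer ((P : Subgroup G) : Set G)
  inf_eq : (P : Subgroup G) ⊓ E = ⊥
  cyclic : IsCyclic E
  two_le : 2 ≤ Nat.card E
  dvd_pred : Nat.card E ∣ p - 1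
  card_normalizer : Nat.card (Subgroup.normalizer (E : Set G)) = 2 * Nat.card E
  ti : ∀ g : G, g ∉ Subgroup.normalizer (E : Set G) →
    E ⊓ E.map (MulAut.conj g).toMonoidHom = ⊥
  unique_deg : ∃! χ : IrrCharacter G, charDegree (χ : G → ℂ) = p
  index_p : ∃ H : Subgroup G, H.index = p

/-- Module A (reduction): from the hypotheses of S4724. -/
def SetupStmt : Prop := ∀ {α : Type u} [Fintype α] [DecidableEq α] {p : ℕ} [Fact p.Prime]
    (_ : Fintype.card α = p) (G : Subgroup (Equiv.Perm α)) [MulAction.IsPretransitive G α]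
    (_ : ∃! χ : IrrCharacter G, charDegree (χ : G → ℂ) = p) (P : Sylow p G) (E : Subgroup G)
    (_ : (P : Subgroup G) ⊔ E = Subgroup.normalizer ((P : Subgroup G) : Set G))
    (_ : (P : Subgroup G) ⊓ E = ⊥)
    (_ : Nat.card (Subgroup.normalizer (E : Set G)) = 2 * Nat.card E)
    (_ : ∀ g : G, g ∉ Subgroup.normalizer (E : Set G) →
      E ⊓ E.map (MulAut.conj g).toMonoidHom = ⊥), Hyp p P E

/-- Module A (finish): a simple `PSL(2, F)` with a subgroup of prime index `p` dividing its order. -/
def FinishStmt : Prop := ∀ {G : Type u} [Group G] [Finite G] {p : ℕ} [Fact p.Prime] {P : Sylow p G}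
    {E : Subgroup G} (_ : Hyp p P E) (F : Type) [Field F] [Fintype F] (_ : Odd (Fintype.card F))
    (_ : Nonempty (G ≃* Matrix.ProjectiveSpecialLinearGroup (Fin 2) F)),
    (p = 5 ∨ p = 7 ∨ p = 11) ∧ ∃ (K : Type) (_ : Field K) (_ : Fintype K), Fintype.card K = p ∧
      Nonempty (G ≃* Matrix.ProjectiveSpecialLinearGroup (Fin 2) K)

/-- Module B: the case `|E|` even (via S0508). -/
def EvenStmt : Prop := ∀ {G : Type u} [Group G] [Finite G] {p : ℕ} [Fact p.Prime] {P : Sylow p G}
    {E : Subgroup G} (_ : Hyp p P E) (_ : Even (Nat.card E)),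
    ∃ (F : Type) (_ : Field F) (_ : Fintype F), Odd (Fintype.card F) ∧
      Nonempty (G ≃* Matrix.ProjectiveSpecialLinearGroup (Fin 2) F)

/-- Module C: for `|E| = 2 m + 1` there are `m` real irreducible characters of degree `p + 1`. -/
def FamilyStmt : Prop := ∀ {G : Type u} [Group G] [Finite G] {p : ℕ} [Fact p.Prime] {P : Sylow p G}
    {E : Subgroup G} (_ : Hyp p P E) (m : ℕ) (_ : Nat.card E = 2 * m + 1),
    ∃ β : Fin m → IrrCharacter G, Function.Injective β ∧
      ∀ j, charDegree (β j : G → ℂ) = p + 1 ∧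
        ∀ g : G, (starRingEnd ℂ) ((β j : G → ℂ) g) = (β j : G → ℂ) g

end H78.DegP
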