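import Cfsg.Agent.H85.D1.Transfer
import Mathlib.LinearAlgebra.Dual.Basis

/-!
helper78 (S4724): labels of lattices at a Sylow subgroup of order `p`: an eigenvalue of the
normaliser on a fixed vector paired to a unit by a fixed functional. Two lattices with
orthogonal idempotents have no common label.
-/

set_option autoImplicit false
set_option linter.style.haveILetI false
set_option linter.unusedSectionVars false

open Module

namespace H78.DegP

universe u v

section Pair

variable {R : Type u} [CommRing R] [IsDomain R] [IsPrincipalIdealRing R] [CharZero R]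
variable {M : Type v} [AddCommGroup M] [Module R M] [Module.Free R M] [Module.Finite R M]
variable {p : ℕ} [hp : Fact p.Prime]

theorem exists_pair (hirr : Irreducible (p : R)) {ω : R} (hω : IsPrimitiveRoot ω (p - 1))
    {cinv : R} (hcinv : cinv * ((p - 1 : ℕ) : R) = 1) (σ ν : End R M) (hσ : σ ^ p = 1)
    (hν : ν ^ (p - 1) = 1) {a : ℕ} (ha : ¬ p ∣ a) (hνσ : ν * σ = σ ^ a * ν) {S : ℤ}
    (hS : ∑ i ∈ Finset.Ico 1 p, LinearMap.trace R M (σ ^ i) = (S : R)) (hpos : 0 < S) :
    ∃ l : ℕ, ∃ (v : M) (φ : M →ₗ[R] R), σ v = v ∧ ν v = ω ^ l • v ∧ φ ∘ₗ σ = φ ∧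
      φ ∘ₗ ν = ω ^ l • φ ∧ ¬ (p : R) ∣ φ v := by
  classical
  obtain ⟨s, w, hs, hfix, hnr, -⟩ := H85.D1.exists_frame hirr hω hcinv σ ν hσ hν ha hνσ hS
  have hs0 : 0 < s := Nat.pos_of_ne_zero fun h => by
    subst h
    simp at hs
    omega
  set x := w ⟨0, hs0⟩ with hx
  have hxW : x ∉ LinearMap.range (H85.D1.nrm p σ) := fun h =>
    hirr.not_isUnit (isUnit_of_dvd_one (hnr ⟨0, hs0⟩ 1 (by rwa [one_smul])))
  set A := H85.D1.nrm p σ with hA
  -- a fixed functional with unit value at `x`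
  obtain ⟨φ₀, hφ₀σ, hφ₀⟩ : ∃ φ₀ : M →ₗ[R] R, φ₀ ∘ₗ σ = φ₀ ∧ ¬ (p : R) ∣ φ₀ x := by
    by_contra hall
    push Not at hall
    let b := Module.Free.chooseBasis R (LinearMap.range A)
    have hdiv : ∀ j, (p : R) ∣ b.repr (A.rangeRestrict x) j := fun j =>
      hall ((b.coord j) ∘ₗ A.rangeRestrict) (LinearMap.ext fun y => by
        simp only [LinearMap.comp_apply]
        congr 1
        exact Subtype.ext (LinearMap.congr_fun (H85.D1.nrm_sigma hσ) y))
    choose c hc using hdiv
    set y : LinearMap.range A := ∑ j, c j • b j with hy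
    have h1 : A.rangeRestrict x = (p : R) • y := by
      conv_lhs => rw [← b.sum_repr (A.rangeRestrict x)]
      rw [hy, Finset.smul_sum]
      exact Finset.sum_congr rfl fun j _ => by rw [hc j, mul_smul]
    have h2 : A x = (p : R) • (y : M) := congrArg Subtype.val h1
    rw [show A x = (p : R) • x from H85.D1.nrm_apply_of_fixed (hfix _)] at h2
    have h3 : x = (y : M) := smul_right_injective M (Nat.cast_ne_zero.2 hp.out.ne_zero) h2
    exact hxW (h3 ▸ y.2)
  -- split along the eigenvalues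
  have hsum : φ₀ x = ∑ l ∈ Finset.range (p - 1), φ₀ (H85.D1.eigProj ω cinv p ν l x) := by
    rw [← map_sum, ← LinearMap.sum_apply, H85.D1.sum_eigProj hω hcinv]
    rfl
  obtain ⟨l, hl, hldvd⟩ : ∃ l ∈ Finset.range (p - 1),
      ¬ (p : R) ∣ φ₀ (H85.D1.eigProj ω cinv p ν l x) := by
    by_contra hall
    push Not at hall
    exact hφ₀ (hsum ▸ Finset.dvd_sum hall)
  rw [Finset.mem_range] at hl
  set E := H85.D1.eigProj ω cinv p ν l with hE
  have hνE : ν * E = ω ^ l • E := H85.D1.nu_eigProj hω ν hν l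
  have hcomm : Commute ν E := by
    refine Commute.smul_right ?_ cinv
    exact Commute.sum_right _ _ _ fun j _ => (Commute.self_pow ν j).smul_right _
  have hνfix : ∀ y, σ y = y → σ (ν y) = ν y := fun y hy => by
    refine H85.D1.sigma_fix_of_pow hσ ha ?_
    rw [← End.mul_apply, ← hνσ, End.mul_apply, hy]
  have hjfix : ∀ j : ℕ, σ ((ν ^ j) x) = (ν ^ j) x := fun j => by
    induction j with
    | zero => simpa using hfix _
    | succ j ih => rw [pow_succ', End.mul_apply]; exact hνfix _ ih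
  have hφj : ∀ j : ℕ, ∀ y, φ₀ ((ν ^ j) (σ y)) = φ₀ ((ν ^ j) y) := fun j => by
    induction j with
    | zero => intro y; simpa using LinearMap.congr_fun hφ₀σ y
    | succ j ih =>
      intro y
      have hiter : ∀ (i : ℕ) (z : M), φ₀ ((ν ^ j) ((σ ^ i) z)) = φ₀ ((ν ^ j) z) := fun i => by
        induction i with
        | zero => simp
        | succ i ih' => intro z; rw [pow_succ', End.mul_apply, ih, ih']
      rw [pow_succ, End.mul_apply, End.mul_apply, ← End.mul_apply (f := ν) (g := σ), hνσ,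
        End.mul_apply, hiter]
  refine ⟨l, E x, φ₀ ∘ₗ E, ?_, ?_, ?_, ?_, ?_⟩
  · simp [hE, H85.D1.eigProj, LinearMap.sum_apply, map_sum, map_smul, hjfix]
  · rw [← End.mul_apply, hνE]; rfl
  · refine LinearMap.ext fun y => ?_
    simp only [LinearMap.comp_apply, hE, H85.D1.eigProj, LinearMap.smul_apply, LinearMap.sum_apply,
      map_sum, map_smul, hφj]
  · refine LinearMap.ext fun y => ?_
    simp only [LinearMap.comp_apply]
    rw [← End.mul_apply, ← hcomm.eq, hνE]
    simp
  · have hEx : E (E x) = E x := by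
      have h1 : ν (E x) = ω ^ l • E x := by rw [← End.mul_apply, hνE]; rfl
      rw [hE] at h1 ⊢
      rw [H85.D1.eigProj_apply_eigen hω hcinv ν hl h1 hl, if_pos rfl]
    show ¬ (p : R) ∣ φ₀ (E (E x))
    rwa [hEx]

end Pair

section Orbit

theorem dvd_sum_perm {R : Type u} [CommRing R] {p : ℕ} [hp : Fact p.Prime] {Q : Type v}
    [DecidableEq Q] (π : Equiv.Perm Q) (hπ : π ^ p = 1) (F : Q → R) (hF : ∀ q, F (π q) = F q)
    (s : Finset Q) (hs : ∀ q ∈ s, π q ∈ s) (hfree : ∀ q ∈ s, π q ≠ q) :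
    (p : R) ∣ ∑ q ∈ s, F q := by
  induction s using Finset.strongInduction with
  | _ s ih => ?_
  rcases s.eq_empty_or_nonempty with rfl | ⟨x, hx⟩
  · simp
  have hpow : ∀ i : ℕ, (π ^ i) x ∈ s ∧ F ((π ^ i) x) = F x := fun i => by
    induction i with
    | zero => exact ⟨by simpa, by simp⟩
    | succ i ih' =>
      rw [pow_succ', Equiv.Perm.mul_apply]
      exact ⟨hs _ ih'.1, by rw [hF, ih'.2]⟩
  have hinj : Set.InjOn (fun i : ℕ => (π ^ i) x) (Finset.range p) := by
    have hper : Function.minimalPeriod π x = p := Function.minimalPeriod_eq_prime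
      (show π^[p] x = x by rw [← Equiv.Perm.coe_pow, hπ]; rfl) (hfree x hx)
    intro i hi j hj hij
    simp only [Finset.coe_range, Set.mem_Iio] at hi hj
    simp only [Equiv.Perm.coe_pow] at hij
    exact Function.iterate_injOn_Iio_minimalPeriod (f := π) (x := x) (by simpa [hper] using hi)
      (by simpa [hper] using hj) hij
  set O := (Finset.range p).image fun i => (π ^ i) x with hO
  have hOs : O ⊆ s := Finset.image_subset_iff.2 fun i _ => (hpow i).1
  have hxO : x ∈ O := Finset.mem_image.2 ⟨0, Finset.mem_range.2 hp.out.pos, by simp⟩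
  have hback : ∀ q, π q ∈ O → q ∈ O := fun q hq => by
    obtain ⟨i, hi, hiq⟩ := Finset.mem_image.1 hq
    rw [Finset.mem_range] at hi
    refine Finset.mem_image.2 ⟨(i + (p - 1)) % p, Finset.mem_range.2 (Nat.mod_lt _ hp.out.pos), ?_⟩
    apply π.injective
    rw [← pow_eq_pow_mod _ hπ, ← hiq, ← Equiv.Perm.mul_apply, ← pow_succ',
      show i + (p - 1) + 1 = i + p by have := hp.out.one_le; omega, pow_add, hπ, mul_one]
  rw [← Finset.sum_sdiff hOs]
  refine dvd_add (ih _ (Finset.sdiff_ssubset hOs ⟨x, hxO⟩) (fun q hq => ?_)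
    fun q hq => hfree q (Finset.mem_sdiff.1 hq).1) ?_
  · rw [Finset.mem_sdiff] at hq ⊢
    exact ⟨hs q hq.1, fun h => hq.2 (hback q h)⟩
  · rw [hO, Finset.sum_image hinj, Finset.sum_congr rfl fun i _ => (hpow i).2, Finset.sum_const,
      Finset.card_range, nsmul_eq_mul]
    exact dvd_mul_right _ _

end Orbit

section Label

variable (R : Type) [CommRing R]

/-- A label of the central element `E`: an eigenvalue `z` of `n0`. -/
def Lab (p : ℕ) {G : Type u} [Group G] [Fintype G] (P : Subgroup G) (n0 : G) (E : G → R) (z : R) :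
    Prop :=
  ∃ (L : Type u) (_ : AddCommGroup L) (_ : Module R L) (_ : Module.Free R L) (_ : Module.Finite R L)
    (ρ : Representation R G L) (v : L) (φ : L →ₗ[R] R),
    (∑ g, E g • ρ g) = (Nat.card G : R) • (1 : End R L) ∧ (∀ x ∈ P, ρ x v = v) ∧
    ρ n0 v = z • v ∧ (∀ x ∈ P, φ ∘ₗ ρ x = φ) ∧ φ ∘ₗ ρ n0 = z • φ ∧ ¬ (p : R) ∣ φ v

variable {R} [IsDomain R] [CharZero R]
variable {G : Type u} [Group G] [Fintype G] {p : ℕ} [hp : Fact p.Prime]

/-- The dual lattice carries the inverse label. -/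
theorem Lab.dual {P : Subgroup G} {n0 : G} {E : G → R} {z z' : R} (hz : z' * z = 1)
    (hE : ∀ g, E g⁻¹ = E g) (h : Lab R p P n0 E z) : Lab R p P n0 E z' := by
  classical
  obtain ⟨L, i1, i2, i3, i4, ρ, v, φ, hC, hv, hnv, hφ, hnφ, hu⟩ := h
  refine ⟨L →ₗ[R] R, inferInstance, inferInstance, inferInstance, inferInstance, ρ.dual, φ,
    Module.Dual.eval R L v, ?_, ?_, ?_, ?_, ?_, hu⟩
  · refine LinearMap.ext fun ψ => LinearMap.ext fun y => ?_
    have h1 := LinearMap.congr_fun hC y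
    simp only [LinearMap.sum_apply, LinearMap.smul_apply, Module.End.one_apply] at h1
    simp only [LinearMap.sum_apply, LinearMap.smul_apply, Module.End.one_apply, smul_eq_mul]
    have h2 := congrArg ψ h1
    rw [map_sum, map_smul] at h2
    rw [← smul_eq_mul, ← h2]
    refine Fintype.sum_equiv (Equiv.inv G) _ _ fun g => ?_
    rw [Representation.dual_apply, map_smul, smul_eq_mul, Equiv.inv_apply, hE]
    rfl
  · intro x hx
    rw [Representation.dual_apply]
    exact hφ _ (inv_mem hx)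
  · rw [Representation.dual_apply]
    refine LinearMap.ext fun y => ?_
    have h1 := LinearMap.congr_fun hnφ (ρ n0⁻¹ y)
    simp only [LinearMap.comp_apply, LinearMap.smul_apply, smul_eq_mul] at h1
    rw [← End.mul_apply (f := ρ n0), ← map_mul, mul_inv_cancel, map_one, Module.End.one_apply] at h1
    show φ (ρ n0⁻¹ y) = z' * φ y
    rw [h1, ← mul_assoc, hz, one_mul]
  · intro x hx
    refine LinearMap.ext fun ψ => ?_
    show ψ (ρ x⁻¹ v) = ψ v
    rw [hv _ (inv_mem hx)]
  · refine LinearMap.ext fun ψ => ?_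
    show ψ (ρ n0⁻¹ v) = z' * ψ v
    have h1 : ρ n0⁻¹ (ρ n0 v) = v := by rw [← End.mul_apply, ← map_mul, inv_mul_cancel, map_one]; rfl
    rw [hnv, map_smul] at h1
    conv_rhs => rw [← h1, map_smul, smul_eq_mul, ← mul_assoc, hz, one_mul]

/-- Two lattices of orthogonal central elements have no common label. -/
theorem Lab.disjoint (P : Sylow p G) {u n0 : G} (hu : Subgroup.zpowers u = (P : Subgroup G))
    (hn : n0 ∈ Subgroup.normalizer ((P : Subgroup G) : Set G))
    (hgen : ∀ x ∈ Subgroup.normalizer ((P : Subgroup G) : Set G),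
      ∃ y ∈ (P : Subgroup G), ∃ j : ℕ, x = y * n0 ^ j)
    (hp2 : Prime (p : R)) (hup : u ^ p = 1) {E E' : G → R} {z : R}
    (hconv : ∀ g, ∑ h, E h * E' (h⁻¹ * g) = 0)
    (h : Lab R p (P : Subgroup G) n0 E z) (h' : Lab R p (P : Subgroup G) n0 E' z) : False := by
  classical
  obtain ⟨L, i1, i2, i3, i4, ρ, v, φ, hC, hv, hnv, hφ, hnφ, hunit⟩ := h
  obtain ⟨L', j1, j2, j3, j4, ρ', v', φ', hC', hv', hnv', hφ', hnφ', hunit'⟩ := h'
  have hcard : (Nat.card G : R) ≠ 0 := Nat.cast_ne_zero.2 Nat.card_pos.ne'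
  have hC0 : (∑ g, E g • ρ' g) = 0 := by
    have h1 : (∑ g, E g • ρ' g) * (∑ g, E' g • ρ' g) = 0 := by
      rw [Finset.sum_mul]
      simp only [Finset.mul_sum, smul_mul_assoc, mul_smul_comm, ← map_mul, smul_smul]
      rw [Finset.sum_congr rfl fun g _ => Fintype.sum_equiv (Equiv.mulLeft g)
        (fun h => (E' h * E g) • ρ' (g * h)) (fun k => (E g * E' (g⁻¹ * k)) • ρ' k)
        (fun h => by simp [mul_comm]), Finset.sum_comm]
      simp only [← Finset.sum_smul, hconv, zero_smul, Finset.sum_const_zero]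
    rw [hC', mul_smul_comm, mul_one] at h1
    exact (smul_eq_zero.1 h1).resolve_left hcard
  let f : L →ₗ[R] L' := φ.smulRight v'
  let T : L →ₗ[R] L' := ∑ g : G, ρ' g ∘ₗ f ∘ₗ ρ g⁻¹
  have hTapp : ∀ y, T y = ∑ g : G, ρ' g (φ (ρ g⁻¹ y) • v') := fun y => by
    simp [T, f, LinearMap.sum_apply]
  have hint : ∀ k y, T (ρ k y) = ρ' k (T y) := fun k y => by
    rw [hTapp, hTapp, map_sum]
    refine Fintype.sum_equiv (Equiv.mulLeft k⁻¹) _ _ fun g => ?_
    simp only [Equiv.coe_mulLeft]
    rw [← End.mul_apply (f := ρ' k), ← map_mul, mul_inv_cancel_left, ← End.mul_apply (f := ρ g⁻¹),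
      ← map_mul, mul_inv_rev, inv_inv]
  have hT0 : ∀ y, T y = 0 := fun y => by
    have h1 : T ((∑ g, E g • ρ g) y) = (∑ g, E g • ρ' g) (T y) := by
      simp [LinearMap.sum_apply, map_sum, hint]
    rw [hC, hC0, LinearMap.zero_apply, LinearMap.smul_apply, Module.End.one_apply, map_smul] at h1
    exact (smul_eq_zero.1 h1).resolve_left hcard
  set N := Subgroup.normalizer ((P : Subgroup G) : Set G) with hN
  let F : G → R := fun g => φ (ρ g⁻¹ v) * φ' (ρ' g v')
  have hFsum : ∑ g, F g = 0 := by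
    have h1 : φ' (T v) = 0 := by rw [hT0, map_zero]
    rw [← h1, hTapp, map_sum]
    exact Finset.sum_congr rfl fun g _ => by simp [F, map_smul]
  -- invariance
  have hzv : ∀ j : ℕ, ρ (n0 ^ j) v = z ^ j • v ∧ ρ' (n0 ^ j) v' = z ^ j • v' := fun j => by
    induction j with
    | zero => simp
    | succ j ih =>
      rw [pow_succ' n0, map_mul, map_mul, End.mul_apply, End.mul_apply, ih.1, ih.2, map_smul,
        map_smul, hnv, hnv', smul_smul, smul_smul, pow_succ]
      exact ⟨rfl, rfl⟩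
  have hzφ : ∀ (j : ℕ) (y : L), φ (ρ (n0 ^ j) y) = z ^ j * φ y := fun j => by
    induction j with
    | zero => simp
    | succ j ih =>
      intro y
      rw [pow_succ n0, map_mul, End.mul_apply, ih,
        show φ (ρ n0 y) = z * φ y from LinearMap.congr_fun hnφ y, pow_succ, mul_assoc]
  have hFN : ∀ g, ∀ x ∈ N, F (g * x) = F g := fun g x hx => by
    obtain ⟨y, hy, j, rfl⟩ := hgen x hx
    have h1 : φ (ρ g⁻¹ v) = z ^ j * φ (ρ (g * (y * n0 ^ j))⁻¹ v) := by
      rw [← hzφ, ← End.mul_apply, ← map_mul]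
      rw [show n0 ^ j * (g * (y * n0 ^ j))⁻¹ = y⁻¹ * g⁻¹ by group, map_mul, End.mul_apply]
      exact (LinearMap.congr_fun (hφ _ (inv_mem hy)) _).symm
    have h2 : φ' (ρ' (g * (y * n0 ^ j)) v') = z ^ j * φ' (ρ' g v') := by
      rw [map_mul, End.mul_apply, map_mul, End.mul_apply, (hzv j).2, map_smul, hv' _ hy, map_smul,
        map_smul, smul_eq_mul]
    show φ (ρ (g * (y * n0 ^ j))⁻¹ v) * φ' (ρ' (g * (y * n0 ^ j)) v') = φ (ρ g⁻¹ v) * φ' (ρ' g v')
    rw [h1, h2]
    ring
  have hFu : ∀ g, F (u * g) = F g := fun g => by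
    have huP : u ∈ (P : Subgroup G) := hu ▸ Subgroup.mem_zpowers u
    simp only [F, mul_inv_rev, map_mul, End.mul_apply, hv _ (inv_mem huP)]
    rw [show φ' (ρ' u (ρ' g v')) = φ' (ρ' g v') from LinearMap.congr_fun (hφ' _ huP) _]
  haveI : Fintype N := Fintype.ofFinite _
  haveI : Fintype (G ⧸ N) := Fintype.ofFinite _
  let Fq : G ⧸ N → R := fun q => F q.out
  have hFq : ∀ g : G, Fq (g : G ⧸ N) = F g := fun g => by
    obtain ⟨x, hx⟩ := QuotientGroup.mk_out_eq_mul N g
    show F _ = _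
    rw [hx, hFN g x x.2]
  have hsumq : ∑ g, F g = (Fintype.card N : R) * ∑ q, Fq q := by
    rw [← Fintype.sum_fiberwise (fun g : G => (g : G ⧸ N)) F, Finset.mul_sum]
    refine Finset.sum_congr rfl fun q _ => ?_
    obtain ⟨g, rfl⟩ := QuotientGroup.mk_surjective q
    rw [Fintype.sum_equiv (g := fun _ : N => Fq (g : G ⧸ N))
      ({ toFun := fun x => ⟨g⁻¹ * x.1, QuotientGroup.eq.1 x.2.symm⟩
         invFun := fun x => ⟨g * x, (QuotientGroup.eq.2 (by simp)).symm⟩
         left_inv := fun x => Subtype.ext (by simp)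
         right_inv := fun x => Subtype.ext (by simp) } :
        {a : G // (a : G ⧸ N) = (g : G ⧸ N)} ≃ N)]
    · simp
    · intro x
      rw [← hFq x.1, x.2]
  have hq0 : ∑ q, Fq q = 0 := by
    rw [hsumq] at hFsum
    exact (mul_eq_zero.1 hFsum).resolve_left (Nat.cast_ne_zero.2 Fintype.card_ne_zero)
  let π : Equiv.Perm (G ⧸ N) := MulAction.toPerm u
  have hπ : π ^ p = 1 := by
    have h := map_pow (MulAction.toPermHom G (G ⧸ N)) u p
    rw [hup, map_one] at h
    exact h.symm
  have hd := dvd_sum_perm (R := R) π hπ Fq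
    (fun q => by
      obtain ⟨g, rfl⟩ := QuotientGroup.mk_surjective q
      show Fq (u • (g : G ⧸ N)) = _
      rw [show u • (g : G ⧸ N) = ((u * g : G) : G ⧸ N) from rfl, hFq, hFq, hFu])
    (Finset.univ.erase ((1 : G) : G ⧸ N))
    (fun q hq => by
      rw [Finset.mem_erase] at hq ⊢
      refine ⟨fun h => hq.1 ?_, Finset.mem_univ _⟩
      have h1 : u • q = ((1 : G) : G ⧸ N) := h
      have huN : u ∈ N := Subgroup.le_normalizer (hu ▸ Subgroup.mem_zpowers u)
      rw [eq_inv_smul_iff.2 h1]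
      show ((u⁻¹ * 1 : G) : G ⧸ N) = _
      exact QuotientGroup.eq.2 (by simpa using huN))
    (fun q hq h => by
      obtain ⟨g, rfl⟩ := QuotientGroup.mk_surjective q
      refine (Finset.mem_erase.1 hq).1 (QuotientGroup.eq.2 ?_)
      have h1 : ((u * g : G) : G ⧸ N) = g := h
      have h2 : g⁻¹ * u * g ∈ N := by
        have := inv_mem (QuotientGroup.eq.1 h1)
        simpa [mul_assoc] using this
      rw [mul_one]
      exact inv_mem (H85.D1.mem_normalizer_of_fixed P hu h2))
  rw [← Finset.add_sum_erase _ _ (Finset.mem_univ ((1 : G) : G ⧸ N)), hFq] at hq0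
  have hF1 : F 1 = φ v * φ' v' := by simp [F]
  have : (p : R) ∣ φ v * φ' v' := by
    rw [← hF1, eq_neg_of_add_eq_zero_left hq0]
    exact dvd_neg.2 hd
  rcases hp2.dvd_or_dvd this with h1 | h1
  · exact hunit h1
  · exact hunit' h1

end Label

end H78.DegP
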