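import Cfsg.Agent.H78.DegP.Block
import Cfsg.Agent.H85.D1.SmallDegree
import Cfsg.Agent.H15.HalfDeg.Main
import Cfsg.Agent.H19.PrimeDegrees

/-!
helper78 (S4724): odd `e`: `G` is `PSL(2, p)`.
-/

set_option autoImplicit false
set_option linter.style.haveILetI false
set_option linter.unusedSectionVars false

open Cfsg

namespace H78.DegP

universe u

theorem odd_case (hfam : FamilyStmt.{u}) {G : Type u} [Group G] [Finite G] {p : ℕ} [hp : Fact p.Prime]
    {P : Sylow p G} {E : Subgroup G} (h : Hyp p P E) (hodd : ¬ Even (Nat.card E)) :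
    p % 2 = 1 ∧ Nonempty (G ≃* Matrix.ProjectiveSpecialLinearGroup (Fin 2) (ZMod p)) := by
  classical
  letI : Fintype G := Fintype.ofFinite G
  haveI := h.simple
  obtain ⟨m, hm⟩ := Nat.not_even_iff_odd.1 hodd
  obtain ⟨β, hβ, hβp⟩ := hfam h m hm
  obtain ⟨η, hη⟩ := exc_degree h m hm β hβ (fun j => (hβp j).1) fun j => (hβp j).2
  have hp2 := hp.out.two_le
  have he2 := h.two_le
  obtain ⟨c, hc⟩ := h.dvd_pred
  have hc2 : c ≠ 1 → 2 * Nat.card E + 1 ≤ p := fun hc1 => by
    have hc0 : c ≠ 0 := fun h0 => by rw [h0, mul_zero] at hc; omega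
    have : Nat.card E * 2 ≤ Nat.card E * c := Nat.mul_le_mul_left _ (by omega)
    omega
  have hpodd : p % 2 = 1 := hp.out.eq_two_or_odd.resolve_left fun h2 => by
    have := Nat.le_of_dvd (by omega) h.dvd_pred
    omega
  have hc1 : c ≠ 1 := fun h1 => by rw [h1, mul_one] at hc; omega
  have hle := hc2 hc1
  have hna : ¬ IsMulCommutative G := fun hc => by
    obtain ⟨a, b, hab⟩ := h.nonabelian
    exact hab (hc.is_comm.comm a b)
  have hη1 : η ≠ H12.oneIrr G := fun h1 => by
    have h2 : H12.degree (H12.oneIrr G : G → ℂ) = 1 := by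
      apply Nat.cast_injective (R := ℂ)
      rw [← H12.irr_apply_one, H12.oneIrr_apply, Nat.cast_one]
    rw [h1, h2] at hη
    omega
  have hPbot : (P : Subgroup G) ≠ ⊥ := fun h1 => by
    have := h.card_P
    rw [h1, Subgroup.card_bot] at this
    omega
  have hPn : ¬ (P : Subgroup G).Normal := fun hn => by
    rcases hn.eq_bot_or_eq_top with h1 | h1
    · exact hPbot h1
    · refine hna ⟨⟨fun a b => ?_⟩⟩
      have hb : b ∈ Subgroup.centralizer ((P : Subgroup G) : Set G) := by
        rw [h.cent_P, h1]; exact Subgroup.mem_top _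
      exact Subgroup.mem_centralizer_iff.1 hb a (by rw [h1]; exact Subgroup.mem_top _)
  -- Feit-Thompson: no smaller degree
  have heq : 2 * Nat.card E + 1 = p := by
    by_contra hne
    obtain ⟨M, hM⟩ := H20.exists_isPModular (p := p) hp.out
    haveI : M.IsPrime := H20.isPrime_of_modular hM
    obtain ⟨u, a, H, D⟩ := H85.D1.exists_setting h.card_P
    haveI : Fintype H := Fintype.ofFinite _
    have hgen : Subgroup.closure {g : G | g ^ p = 1} = ⊤ := by
      set L := Subgroup.closure {g : G | g ^ p = 1} with hL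
      haveI hLn : L.Normal := by
        refine Subgroup.normalizer_eq_top_iff.1 (top_le_iff.1 fun g _ => ?_)
        rw [Subgroup.mem_normalizer_iff_map_conj_eq, hL, MonoidHom.map_closure]
        congr 1
        ext y
        constructor
        · rintro ⟨z, hz, rfl⟩
          show (MulAut.conj g z) ^ p = 1
          rw [← map_pow, show z ^ p = 1 from hz, map_one]
        · intro hy
          refine ⟨g⁻¹ * y * g, ?_, by simp [mul_assoc]⟩
          show (g⁻¹ * y * g) ^ p = 1
          rw [show g⁻¹ * y * g = g⁻¹ * y * (g⁻¹)⁻¹ by rw [inv_inv], conj_pow,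
            show y ^ p = 1 from hy, mul_one, mul_inv_cancel]
      refine hLn.eq_bot_or_eq_top.resolve_left fun h1 => hPbot ?_
      refine (Subgroup.eq_bot_iff_forall _).2 fun x hx => ?_
      have hxL : x ∈ L := Subgroup.subset_closure (H62.pow_card_of_mem h.card_P hx)
      rwa [h1, Subgroup.mem_bot] at hxL
    refine hPbot ((Subgroup.eq_bot_iff_forall _).2 fun x hx => ?_)
    exact H19.PrimeDeg.eq_one_of_norm_eq hna η hη1
      (D.norm_eq_of_small hM hgen η (by rw [hη]; omega) hx)
  have hZ : Subgroup.center G = ⊥ := by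
    rcases (inferInstance : (Subgroup.center G).Normal).eq_bot_or_eq_top with h1 | h1
    · exact h1
    · exact absurd ⟨⟨fun a b => Subgroup.mem_center_iff.1 (h1 ▸ Subgroup.mem_top b) a⟩⟩ hna
  obtain ⟨f⟩ := H15.HalfDeg.psl_of_half_degree heq (h.card_P ▸ Subgroup.card_subgroup_dvd_card _)
    h.not_sq (fun K hK hKc => by
      rcases hK.eq_bot_or_eq_top with h1 | h1
      · rw [h1, Subgroup.card_bot] at hKc; omega
      · refine hPn ?_
        have h2 : (P : Subgroup G) = ⊤ := by
          refine Subgroup.eq_top_of_card_eq _ ?_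
          rw [h.card_P, ← hKc, h1, Subgroup.card_top]
        rw [h2]
        infer_instance)
    (η : G → ℂ) (H12.isCharacter_irr η)
    (fun g hg => H19.PrimeDeg.eq_one_of_eq_degree η hη1 hg) hη
  exact ⟨hpodd, ⟨(QuotientGroup.quotientBot.symm.trans
    ((QuotientGroup.quotientMulEquivOfEq hZ.symm).trans f))⟩⟩

end H78.DegP
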